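import Mathlib.CategoryTheory.Abelian.Injective.Resolution
import Mathlib.CategoryTheory.Abelian.Refinements
import Mathlib.Algebra.Homology.HomologicalComplexAbelian

/-!
# Injective resolutions given by their cocycles, and their extension along a monomorphism
-/

set_option autoImplicit false
set_option backward.isDefEq.respectTransparency false
set_option backward.isDefEq.respectTransparency.types false

universe v u

open CategoryTheory CategoryTheory.Limits

noncomputable section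

namespace Groth.FiltRes

variable (C : Type u) [Category.{v} C] [Abelian C]

attribute [local instance] Abelian.hasFiniteBiproducts

/-- an injective resolution of `Z 0` cut into short exact sequences -/
structure SRes where
  Z : ℕ → C
  X : ℕ → C
  i : ∀ n, Z n ⟶ X n
  p : ∀ n, X n ⟶ Z (n + 1)
  w : ∀ n, i n ≫ p n = 0
  mono : ∀ n, Mono (i n)
  epi : ∀ n, Epi (p n)
  exact : ∀ n, (ShortComplex.mk (i n) (p n) (w n)).Exact
  inj : ∀ n, Injective (X n)

namespace SRes

attribute [instance] mono epi inj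

variable {C} (S : SRes C)

/-- the complex -/
def cx : CochainComplex C ℕ :=
  CochainComplex.of S.X (fun n => S.p n ≫ S.i (n + 1)) fun n => by simp [reassoc_of% (S.w (n + 1))]

lemma cx_d (n : ℕ) : S.cx.d n (n + 1) = S.p n ≫ S.i (n + 1) := CochainComplex.of_d S.X (fun n => S.p n ≫ S.i (n + 1)) n

lemma aug_d : S.i 0 ≫ S.cx.d 0 1 = 0 := by rw [cx_d]; exact (Category.assoc _ _ _).symm.trans (by rw [S.w, zero_comp])

/-- the augmentation -/
def aug : (CochainComplex.single₀ C).obj (S.Z 0) ⟶ S.cx :=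
  (CochainComplex.fromSingle₀Equiv S.cx (S.Z 0)).symm ⟨S.i 0, S.aug_d⟩

lemma aug_f_zero : S.aug.f 0 = S.i 0 := by simp [aug]

lemma exact_cx (n : ℕ) :
    (ShortComplex.mk _ _ (S.cx.d_comp_d n (n + 1) (n + 2))).Exact := by
  rw [ShortComplex.exact_iff_exact_up_to_refinements]
  intro T (x : T ⟶ S.X (n + 1)) hx
  replace hx : x ≫ S.cx.d (n + 1) (n + 2) = 0 := hx
  rw [cx_d S (n + 1)] at hx
  replace hx : (x ≫ S.p (n + 1)) ≫ S.i (n + 1 + 1) = 0 := (Category.assoc _ _ _).trans hx
  have h1 : x ≫ S.p (n + 1) = 0 := (cancel_mono (S.i (n + 1 + 1))).1 (hx.trans zero_comp.symm)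
  obtain ⟨T', π, hπ, z, hz⟩ := (S.exact (n + 1)).exact_up_to_refinements x h1
  obtain ⟨T'', π', hπ', y, hy⟩ := surjective_up_to_refinements_of_epi (S.p n) z
  refine ⟨T'', π' ≫ π, epi_comp _ _, y, ?_⟩
  change (π' ≫ π) ≫ x = y ≫ S.cx.d n (n + 1)
  rw [cx_d]
  exact (Category.assoc _ _ _).trans <| (congrArg (π' ≫ ·) hz).trans <|
    (Category.assoc _ _ _).symm.trans <| (congrArg (· ≫ S.i (n + 1)) hy).trans (Category.assoc _ _ _)

lemma exact_start : (ShortComplex.mk (S.i 0) (S.cx.d 0 1) S.aug_d).Exact := by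
  rw [ShortComplex.exact_iff_exact_up_to_refinements]
  intro T (x : T ⟶ S.X 0) hx
  replace hx : x ≫ S.cx.d 0 1 = 0 := hx
  rw [cx_d S 0] at hx
  replace hx : (x ≫ S.p 0) ≫ S.i 1 = 0 := (Category.assoc _ _ _).trans hx
  exact (S.exact 0).exact_up_to_refinements x ((cancel_mono (S.i 1)).1 (hx.trans zero_comp.symm))

lemma quasiIso_aug : QuasiIso S.aug := ⟨fun n => by
  cases n with
  | zero =>
    rw [CochainComplex.quasiIsoAt₀_iff, ShortComplex.quasiIso_iff_of_zeros]
    · refine (ShortComplex.exact_and_mono_f_iff_of_iso ?_).2 ⟨S.exact_start, S.mono 0⟩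
      refine ShortComplex.isoMk (Iso.refl _) (Iso.refl _) (Iso.refl _) ?_ ?_
      · exact (Category.id_comp _).trans (S.aug_f_zero.symm.trans (Category.comp_id _).symm)
      · exact (Category.id_comp _).trans (Category.comp_id _).symm
    all_goals rfl
  | succ n =>
    rw [quasiIsoAt_iff_exactAt]
    · rw [HomologicalComplex.exactAt_iff' _ n (n + 1) (n + 2) (by simp) (by simp)]
      exact S.exact_cx n
    · exact CochainComplex.exactAt_succ_single_obj _ _⟩

/-- a morphism of resolutions -/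
theorem exists_hom {S T : SRes C} (a : ∀ n, S.Z n ⟶ T.Z n) (s : ∀ n, S.X n ⟶ T.X n)
    (h1 : ∀ n, a n ≫ T.i n = S.i n ≫ s n) (h2 : ∀ n, s n ≫ T.p n = S.p n ≫ a (n + 1))
    (hs : ∀ n, Mono (s n)) :
    ∃ f : S.cx ⟶ T.cx, Mono f ∧ S.aug ≫ f = (CochainComplex.single₀ C).map (a 0) ≫ T.aug := by
  let f : S.cx ⟶ T.cx :=
    ⟨s, fun n m h => by
      obtain rfl : n + 1 = m := h
      rw [cx_d, cx_d]
      exact ((Category.assoc _ _ _).symm.trans ((congrArg (· ≫ T.i (n + 1)) (h2 n)).trans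
        ((Category.assoc _ _ _).trans ((congrArg (S.p n ≫ ·) (h1 (n + 1))).trans
          (Category.assoc _ _ _).symm))))⟩
  have : ∀ n, Mono (f.f n) := hs
  refine ⟨f, HomologicalComplex.mono_of_mono_f f this, ?_⟩
  refine HomologicalComplex.from_single_hom_ext ?_
  simp only [HomologicalComplex.comp_f, aug_f_zero, CochainComplex.single₀_map_f_zero]
  exact (h1 0).symm

end SRes

variable {C} [EnoughInjectives C]

lemma exists_step {Z W Z' A : C} {ι : Z ⟶ W} {q : W ⟶ Z'} (w : ι ≫ q = 0) [Mono ι] [Epi q]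
    (hex : (ShortComplex.mk ι q w).Exact) [Injective W] (μ : Z ⟶ A) [Mono μ] :
    ∃ (X A' : C) (i : A ⟶ X) (p : X ⟶ A') (wp : i ≫ p = 0) (s : W ⟶ X) (μ' : Z' ⟶ A'),
      Injective X ∧ Mono i ∧ Epi p ∧ (ShortComplex.mk i p wp).Exact ∧ Mono s ∧ Mono μ' ∧
      μ ≫ i = ι ≫ s ∧ s ≫ p = q ≫ μ' := by
  let πμ := cokernel.π μ
  let E : C := Injective.under (cokernel μ)
  let g : A ⟶ W := Injective.factorThru ι μ
  let e : A ⟶ E := πμ ≫ Injective.ι (cokernel μ)
  let i : A ⟶ W ⊞ E := biprod.lift g e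
  have hg : μ ≫ g = ι := Injective.comp_factorThru ι μ
  have he : μ ≫ e = 0 := by simp [e, πμ]
  have key : ∀ {T : C} (a : T ⟶ A), a ≫ e = 0 → ∃ z : T ⟶ Z, z ≫ μ = a := fun a ha => by
    have hk : a ≫ πμ = 0 := by
      rw [← cancel_mono (Injective.ι (cokernel μ)), zero_comp, Category.assoc]
      exact ha
    exact ⟨(ShortComplex.exact_cokernel μ).lift a hk, (ShortComplex.exact_cokernel μ).lift_f a hk⟩
  have hi : Mono i := by
    rw [Preadditive.mono_iff_cancel_zero]
    intro T a ha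
    have h1 : a ≫ g = 0 := by simpa [i] using ha =≫ biprod.fst
    have h2 : a ≫ e = 0 := by simpa [i] using ha =≫ biprod.snd
    obtain ⟨z, rfl⟩ := key a h2
    rw [Category.assoc, hg] at h1
    rw [(cancel_mono ι).1 (h1.trans zero_comp.symm), zero_comp]
  have hμ : μ ≫ i = ι ≫ biprod.inl := by
    apply biprod.hom_ext <;> simp [i, hg, he]
  have hdesc : ι ≫ (biprod.inl : W ⟶ W ⊞ E) ≫ cokernel.π i = 0 := by
    rw [← reassoc_of% hμ]; simp
  let μ' : Z' ⟶ cokernel i := hex.desc _ hdesc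
  have hμ' : q ≫ μ' = biprod.inl ≫ cokernel.π i := hex.g_desc _ hdesc
  refine ⟨W ⊞ E, cokernel i, i, cokernel.π i, cokernel.condition i, biprod.inl, μ', inferInstance, hi,
    inferInstance, ShortComplex.exact_cokernel i, inferInstance, ?_, hμ, hμ'.symm⟩
  rw [Preadditive.mono_iff_cancel_zero]
  intro T k hk
  obtain ⟨T₁, π₁, hπ₁, x, hx⟩ := surjective_up_to_refinements_of_epi q k
  have hxi : (x ≫ (biprod.inl : W ⟶ W ⊞ E)) ≫ cokernel.π i = 0 := by
    rw [Category.assoc, ← hμ', ← Category.assoc, ← hx, Category.assoc, hk, comp_zero]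
  let a : T₁ ⟶ A := (ShortComplex.exact_cokernel i).lift _ hxi
  have ha : a ≫ i = x ≫ biprod.inl := (ShortComplex.exact_cokernel i).lift_f _ hxi
  have h1 : a ≫ g = x := by simpa [i] using ha =≫ biprod.fst
  obtain ⟨z, hz⟩ := key a (by simpa [i] using ha =≫ biprod.snd)
  rw [← hz, Category.assoc, hg] at h1
  rw [← cancel_epi π₁, hx, comp_zero, ← h1, Category.assoc, w, comp_zero]

/-- extension of a resolution along a monomorphism -/
theorem exists_extension (S : SRes C) {A : C} (μ : S.Z 0 ⟶ A) [Mono μ] :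
    ∃ (T : SRes C) (e : T.Z 0 ≅ A) (f : S.cx ⟶ T.cx), Mono f ∧
      S.aug ≫ f = (CochainComplex.single₀ C).map (μ ≫ e.inv) ≫ T.aug := by
  have h := fun (n : ℕ) (st : Σ' (B : C) (m : S.Z n ⟶ B), Mono m) =>
    haveI := st.2.2
    exists_step (S.w n) (S.exact n) st.2.1
  choose X A' i p wp s μ' hX hi hp hex hs hμ' hc1 hc2 using h
  let st : ∀ n, Σ' (B : C) (m : S.Z n ⟶ B), Mono m := fun n =>
    Nat.rec ⟨A, μ, ‹_›⟩ (fun n t => ⟨A' n t, μ' n t, hμ' n t⟩) n
  let T : SRes C :=
    { Z := fun n => (st n).1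
      X := fun n => X n (st n)
      i := fun n => i n (st n)
      p := fun n => p n (st n)
      w := fun n => wp n (st n)
      mono := fun n => hi n (st n)
      epi := fun n => hp n (st n)
      exact := fun n => hex n (st n)
      inj := fun n => hX n (st n) }
  obtain ⟨f, hf, he⟩ := SRes.exists_hom (S := S) (T := T) (fun n => (st n).2.1) (fun n => s n (st n))
    (fun n => hc1 n (st n)) (fun n => hc2 n (st n)) (fun n => hs n (st n))
  exact ⟨T, Iso.refl A, f, hf, he.trans (by erw [Category.comp_id]; rfl)⟩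

omit [EnoughInjectives C] in
/-- the zero resolution -/
theorem exists_zero {A : C} (hA : IsZero A) :
    ∃ (T : SRes C) (_ : T.Z 0 ≅ A), IsZero T.cx := by
  let T : SRes C :=
    { Z := fun _ => A, X := fun _ => A, i := fun _ => 𝟙 A, p := fun _ => 0
      w := fun _ => comp_zero
      mono := fun _ => inferInstance
      epi := fun _ => ⟨fun _ _ _ => hA.eq_of_src _ _⟩
      exact := fun _ => ShortComplex.exact_of_isZero_X₂ _ hA
      inj := fun _ => hA.injective }
  refine ⟨T, Iso.refl A, (IsZero.iff_id_eq_zero _).2 ?_⟩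
  ext n
  exact hA.eq_of_src _ _

end Groth.FiltRes
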